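import Mathlib

/-!
# Normalisers of cyclic groups of matrices (S5715, P2)

`card_normalizer_zpowers_le`: if `x` is a matrix whose characteristic polynomial has `k` distinct
irreducible factors, then the normaliser of the cyclic group `⟨x⟩` (modulo scalars) has order at most
`|Z| n ^ k p ^ a |C(x)|`, where `p ^ a ≥ n`.
-/

set_option autoImplicit false

namespace Cfsg.Agent.H886.RG

open Polynomial

section Count

/-- numbers below `m` which are pairwise congruent modulo `m / gcd(m, P)` -/
theorem card_le_gcd (m P : ℕ) (hm : 0 < m) (S : Finset ℕ) (hS : ∀ j ∈ S, j < m)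
    (h : ∀ i ∈ S, ∀ j ∈ S, i ≤ j → m ∣ (j - i) * P) : S.card ≤ Nat.gcd m P := by
  have hg : 0 < Nat.gcd m P := Nat.gcd_pos_of_pos_left _ hm
  obtain ⟨d, e, hde, h1, h2⟩ := Nat.exists_coprime m P
  set g := Nat.gcd m P with hgdef
  have hd : 0 < d := Nat.pos_of_ne_zero fun h0 => by
    rw [h0, Nat.zero_mul] at h1
    omega
  have hmod : ∀ i ∈ S, ∀ j ∈ S, i ≤ j → i % d = j % d := by
    intro i hi j hj hij
    have h3 := h i hi j hj hij
    rw [h1, h2, ← Nat.mul_assoc] at h3
    have h4 : d ∣ (j - i) * e := Nat.dvd_of_mul_dvd_mul_right hg h3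
    have h5 : d ∣ j - i := hde.dvd_of_dvd_mul_right h4
    exact ((Nat.modEq_iff_dvd' hij).2 h5)
  have hmod' : ∀ i ∈ S, ∀ j ∈ S, i % d = j % d := by
    intro i hi j hj
    rcases le_total i j with hij | hij
    · exact hmod i hi j hj hij
    · exact (hmod j hj i hi hij).symm
  have hinj : Set.InjOn (fun j => j / d) (S : Set ℕ) := by
    intro i hi j hj hij
    have h6 : i / d = j / d := hij
    rw [← Nat.div_add_mod i d, ← Nat.div_add_mod j d, h6, hmod' i hi j hj]
  have hmaps : Set.MapsTo (fun j => j / d) (S : Set ℕ) (Finset.range g : Set ℕ) := by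
    intro j hj
    have hj' := hS j hj
    rw [h1] at hj'
    simpa using (Nat.div_lt_of_lt_mul hj')
  have := Finset.card_le_card_of_injOn _ hmaps hinj
  simpa using this

end Count

section Poly

variable {F : Type*} [Field F]

/-- if all irreducible factors of `f` divide `h`, then `f` divides `h ^ deg f` -/
theorem dvd_pow_natDegree (f h : F[X]) (hf : f ≠ 0)
    (hd : ∀ g : F[X], Irreducible g → g.Monic → g ∣ f → g ∣ h) :
    f ∣ h ^ f.natDegree := by
  classical
  have h1 : Associated (UniqueFactorizationMonoid.normalizedFactors f).prod f :=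
    UniqueFactorizationMonoid.prod_normalizedFactors hf
  refine h1.symm.dvd.trans ?_
  have hcard : (UniqueFactorizationMonoid.normalizedFactors f).card ≤ f.natDegree := by
    rw [← natDegree_eq_of_degree_eq (degree_eq_degree_of_associated h1)]
    rw [natDegree_multiset_prod _ (UniqueFactorizationMonoid.zero_notMem_normalizedFactors f)]
    rw [← Multiset.card_map natDegree]
    refine (Multiset.card_nsmul_le_sum (a := 1) ?_).trans' (by simp)
    intro y hy
    obtain ⟨g, hg, rfl⟩ := Multiset.mem_map.1 hy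
    exact (UniqueFactorizationMonoid.irreducible_of_normalized_factor g hg).natDegree_pos
  have h2 : (UniqueFactorizationMonoid.normalizedFactors f).prod ∣
      h ^ (UniqueFactorizationMonoid.normalizedFactors f).card := by
    have : ∀ s : Multiset F[X], (∀ g ∈ s, g ∣ h) → s.prod ∣ h ^ s.card := by
      intro s
      induction s using Multiset.induction_on with
      | empty => intro _; simp
      | cons a s ih =>
        intro hs
        rw [Multiset.prod_cons, Multiset.card_cons, pow_succ']
        exact mul_dvd_mul (hs a (Multiset.mem_cons_self _ _))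
          (ih fun g hg => hs g (Multiset.mem_cons_of_mem hg))
    apply this
    intro g hg
    have hirr := UniqueFactorizationMonoid.irreducible_of_normalized_factor g hg
    have hn : normalize g = g := UniqueFactorizationMonoid.normalize_normalized_factor g hg
    refine hd g hirr ?_ (UniqueFactorizationMonoid.dvd_of_mem_normalizedFactors hg)
    rw [← hn]
    exact monic_normalize hirr.ne_zero
  exact h2.trans (pow_dvd_pow _ hcard)

end Poly

section Mat

variable {F : Type*} [Field F] {ι : Type*} [Fintype ι] [DecidableEq ι]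

/-- eigenvalues of `c x ^ j` -/
theorem isRoot_charpoly_smul_pow (A : Matrix ι ι F) (lam c : F) (j : ℕ)
    (h : A.charpoly.IsRoot lam) : (c • A ^ j).charpoly.IsRoot (c * lam ^ j) := by
  rw [← Matrix.mem_spectrum_iff_isRoot_charpoly] at h ⊢
  have h1 := spectrum.subset_polynomial_aeval (𝕜 := F) A (C c * X ^ j) ⟨lam, h, rfl⟩
  simpa [Algebra.smul_def] using h1

/-- the same over an extension field -/
theorem isRoot_map_charpoly {K : Type*} [Field K] [Algebra F K] (A : Matrix ι ι F) (lam : K) (c : F)
    (j : ℕ) (h : aeval lam A.charpoly = 0) (hc : (c • A ^ j).charpoly = A.charpoly) :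
    aeval (algebraMap F K c * lam ^ j) A.charpoly = 0 := by
  have h1 : (A.map (algebraMap F K)).charpoly.IsRoot lam := by
    rw [Matrix.charpoly_map, IsRoot.def, eval_map_algebraMap]
    exact h
  have h2 := isRoot_charpoly_smul_pow _ lam (algebraMap F K c) j h1
  have h3 : algebraMap F K c • A.map (algebraMap F K) ^ j = (c • A ^ j).map (algebraMap F K) := by
    have h4 : A.map (algebraMap F K) ^ j = (A ^ j).map (algebraMap F K) :=
      (map_pow (algebraMap F K).mapMatrix A j).symm
    rw [h4]
    ext a b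
    simp
  rw [h3, Matrix.charpoly_map, hc, IsRoot.def, eval_map_algebraMap] at h2
  exact h2

/-- a power of `x` all of whose eigenvalues are `1` has order dividing `p ^ a` -/
theorem pow_mul_eq_one (p a : ℕ) [Fact p.Prime] [CharP F p] (ha : Fintype.card ι ≤ p ^ a)
    (A : Matrix ι ι F) (l : ℕ)
    (h : ∀ g : F[X], Irreducible g → g.Monic → g ∣ A.charpoly → g ∣ X ^ l - 1) :
    A ^ (l * p ^ a) = 1 := by
  rcases isEmpty_or_nonempty ι with hι | hι
  · exact Subsingleton.elim _ _
  have h1 := dvd_pow_natDegree A.charpoly (X ^ l - 1) A.charpoly_monic.ne_zero h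
  rw [Matrix.charpoly_natDegree_eq_dim] at h1
  have h2 : A.charpoly ∣ (X ^ l - 1) ^ (p ^ a) := h1.trans (pow_dvd_pow _ ha)
  obtain ⟨r, hr⟩ := h2
  have h3 : aeval A ((X ^ l - 1 : F[X]) ^ (p ^ a)) = 0 := by
    rw [hr, map_mul, Matrix.aeval_self_charpoly, zero_mul]
  simp only [map_pow, map_sub, aeval_X, map_one] at h3
  have : CharP (Matrix ι ι F) p := inferInstance
  rw [sub_pow_char_pow_of_commute _ _ (Commute.one_right _), one_pow, sub_eq_zero, ← pow_mul] at h3
  exact h3

open scoped Classical in
/-- the number of distinct monic irreducible factors of a polynomial -/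
noncomputable def nfac (f : F[X]) : ℕ := (UniqueFactorizationMonoid.normalizedFactors f).toFinset.card

/-- **The exponents `j` for which `x ^ j` is similar to a scalar multiple of `x`.** -/
theorem card_powers_le (p a : ℕ) [Fact p.Prime] [CharP F p] (ha : Fintype.card ι ≤ p ^ a)
    (A : Matrix ι ι F) (m : ℕ) (hm : 0 < m) (hmo : m ∣ orderOf A) (ho : 0 < orderOf A)
    (Z : Finset F) (hZ : (0 : F) ∉ Z) (J : Finset ℕ) (hJ : ∀ j ∈ J, j < m)
    (hJ2 : ∀ j ∈ J, ∃ z ∈ Z, (z • A ^ j).charpoly = A.charpoly) :
    J.card ≤ Z.card * Fintype.card ι ^ nfac A.charpoly * Nat.gcd m (p ^ a) := by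
  classical
  set K := AlgebraicClosure F
  set T : Finset F[X] := (UniqueFactorizationMonoid.normalizedFactors A.charpoly).toFinset with hT
  have hT1 : ∀ g : T, Irreducible g.1 := fun g =>
    UniqueFactorizationMonoid.irreducible_of_normalized_factor g.1 (Multiset.mem_toFinset.1 g.2)
  have hT2 : ∀ g : T, g.1 ∣ A.charpoly := fun g =>
    UniqueFactorizationMonoid.dvd_of_mem_normalizedFactors (Multiset.mem_toFinset.1 g.2)
  have hT3 : ∀ g : F[X], Irreducible g → g.Monic → g ∣ A.charpoly → g ∈ T := by
    intro g hg hgm hd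
    rw [hT, Multiset.mem_toFinset]
    obtain ⟨g', hg', hass⟩ := UniqueFactorizationMonoid.exists_mem_normalizedFactors_of_dvd
      A.charpoly_monic.ne_zero hg hd
    have h1 : normalize g' = g' := UniqueFactorizationMonoid.normalize_normalized_factor g' hg'
    have h2 : normalize g = normalize g' := normalize_eq_normalize_iff_associated.2 hass
    rw [h1, hgm.normalize_eq_self] at h2
    rw [h2]
    exact hg'
  -- a root of every factor
  have hex : ∀ g : T, ∃ lam : K, aeval lam g.1 = 0 := fun g =>
    IsAlgClosed.exists_aeval_eq_zero K g.1 (hT1 g).degree_pos.ne'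
  choose lam hlam using hex
  have hlam' : ∀ g : T, aeval (lam g) A.charpoly = 0 := fun g => by
    obtain ⟨r, hr⟩ := hT2 g
    rw [hr, map_mul, hlam g, zero_mul]
  -- the set of the roots
  set R : Finset K := (A.charpoly.map (algebraMap F K)).roots.toFinset with hR
  have hRcard : R.card ≤ Fintype.card ι := by
    calc R.card ≤ (A.charpoly.map (algebraMap F K)).roots.card := Multiset.toFinset_card_le _
      _ ≤ (A.charpoly.map (algebraMap F K)).natDegree := card_roots' _
      _ = Fintype.card ι := by rw [natDegree_map, Matrix.charpoly_natDegree_eq_dim]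
  have hRmem : ∀ y : K, aeval y A.charpoly = 0 → y ∈ R := by
    intro y hy
    rw [hR, Multiset.mem_toFinset, mem_roots (A.charpoly_monic.map _).ne_zero, IsRoot.def,
      eval_map_algebraMap]
    exact hy
  have hlam0 : ∀ g : T, lam g ≠ 0 := by
    intro g h0
    have h1 := hlam' g
    rw [h0, ← coeff_zero_eq_aeval_zero'] at h1
    have h2 : A.charpoly.coeff 0 = 0 := (algebraMap F K).injective (by rw [h1, map_zero])
    have h3 : A.det = 0 := by
      rw [Matrix.det_eq_sign_charpoly_coeff, h2, mul_zero]
    have h4 : A.det ^ orderOf A = 1 := by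
      rw [← Matrix.det_pow, pow_orderOf_eq_one, Matrix.det_one]
    rw [h3, zero_pow ho.ne'] at h4
    exact zero_ne_one h4
  -- choose the scalars
  choose! z hzZ hzc using hJ2
  let Φ : ℕ → F × (T → K) := fun j => (z j, fun g => algebraMap F K (z j) * lam g ^ j)
  have hmaps : ∀ j ∈ J, Φ j ∈ Z ×ˢ Fintype.piFinset fun _ : T => R := by
    intro j hj
    rw [Finset.mem_product, Fintype.mem_piFinset]
    exact ⟨hzZ j hj, fun g => hRmem _ (isRoot_map_charpoly A (lam g) (z j) j (hlam' g) (hzc j hj))⟩
  have hfib : ∀ b ∈ Z ×ˢ Fintype.piFinset fun _ : T => R,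
      (J.filter fun j => Φ j = b).card ≤ Nat.gcd m (p ^ a) := by
    intro b _
    apply card_le_gcd m (p ^ a) hm
    · intro j hj
      exact hJ j (Finset.mem_filter.1 hj).1
    · intro i hi j hj hij
      obtain ⟨hi1, hi2⟩ := Finset.mem_filter.1 hi
      obtain ⟨hj1, hj2⟩ := Finset.mem_filter.1 hj
      have h1 : Φ i = Φ j := hi2.trans hj2.symm
      have h2 : z i = z j := congrArg Prod.fst h1
      have h3 : ∀ g : T, lam g ^ (j - i) = 1 := by
        intro g
        have h4 : algebraMap F K (z i) * lam g ^ i = algebraMap F K (z j) * lam g ^ j :=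
          congrFun (congrArg Prod.snd h1) g
        have hz0 : algebraMap F K (z j) ≠ 0 := by
          intro h0
          have : z j = 0 := (algebraMap F K).injective (by rw [h0, map_zero])
          exact hZ (this ▸ hzZ j hj1)
        rw [h2] at h4
        have h5 := mul_left_cancel₀ hz0 h4
        have h6 : lam g ^ j = lam g ^ i * lam g ^ (j - i) := by
          rw [← pow_add, Nat.add_sub_cancel' hij]
        rw [h6] at h5
        exact (mul_left_cancel₀ (pow_ne_zero i (hlam0 g)) (by rw [mul_one]; exact h5)).symm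
      have h7 : A ^ ((j - i) * p ^ a) = 1 := by
        apply pow_mul_eq_one p a ha
        intro g hg hgm hd
        have hgT := hT3 g hg hgm hd
        have h8 := minpoly.eq_of_irreducible_of_monic hg (hlam ⟨g, hgT⟩) hgm
        rw [h8]
        apply minpoly.dvd
        simp [h3 ⟨g, hgT⟩]
      exact hmo.trans (orderOf_dvd_of_pow_eq_one h7)
  have hmain := Finset.card_le_mul_card_image_of_maps_to hmaps _ hfib
  refine hmain.trans ?_
  rw [Finset.card_product, Fintype.card_piFinset, Finset.prod_const, Finset.card_univ, Nat.mul_comm]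
  refine Nat.mul_le_mul_right _ (Nat.mul_le_mul_left _ ?_)
  rw [Fintype.card_coe]
  exact Nat.pow_le_pow_left hRcard _

end Mat

section Grp

open Subgroup

/-- a set of elements such that the conjugates of `x` by them are determined by a function `e` -/
theorem card_le_mul_centralizer {G : Type*} [Group G] [Finite G] (x : G) (D : Set G) {β : Type*}
    [Finite β] (e : D → β) (he : ∀ s t : D, e s = e t → s.1 * x * s.1⁻¹ = t.1 * x * t.1⁻¹) :
    Nat.card D ≤ Nat.card β * Nat.card (centralizer {x} : Subgroup G) := by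
  classical
  have : Finite D := Finite.of_injective _ Subtype.val_injective
  let c : Set.range e → D := fun b => Classical.choose b.2
  have hc : ∀ b : Set.range e, e (c b) = b.1 := fun b => Classical.choose_spec b.2
  have hcent : ∀ g : D, (c ⟨e g, g, rfl⟩).1⁻¹ * g.1 ∈ centralizer {x} := by
    intro g
    set t := c ⟨e g, g, rfl⟩ with ht
    have h1 : e t = e g := hc ⟨e g, g, rfl⟩
    have h2 : t.1 * x * t.1⁻¹ = g.1 * x * g.1⁻¹ := he _ _ h1
    rw [mem_centralizer_singleton_iff]
    have h3 : g.1 * x = t.1 * x * t.1⁻¹ * g.1 := by rw [h2]; group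
    calc t.1⁻¹ * g.1 * x = t.1⁻¹ * (g.1 * x) := by group
      _ = t.1⁻¹ * (t.1 * x * t.1⁻¹ * g.1) := by rw [h3]
      _ = x * (t.1⁻¹ * g.1) := by group
  let f : D → β × (centralizer {x} : Subgroup G) := fun g => (e g, ⟨_, hcent g⟩)
  have hf : Function.Injective f := by
    intro s t h
    have h1 : e s = e t := congrArg Prod.fst h
    have h2 : (c ⟨e s, s, rfl⟩).1⁻¹ * s.1 = (c ⟨e t, t, rfl⟩).1⁻¹ * t.1 :=
      congrArg Subtype.val (congrArg Prod.snd h)
    have h3 : (⟨e s, s, rfl⟩ : Set.range e) = ⟨e t, t, rfl⟩ := Subtype.ext h1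
    rw [h3] at h2
    exact Subtype.ext (mul_left_cancel h2)
  have h := Nat.card_le_card_of_injective f hf
  rwa [Nat.card_prod] at h

/-- the normaliser of a cyclic group: `|N(⟨x⟩)| ≤ |J| |C(x)|`, where `J` contains every exponent `j`
such that `x ^ j` is conjugate to `x` -/
theorem card_normalizer_le {G : Type*} [Group G] [Finite G] (x : G) (J : Finset ℕ)
    (hJ : ∀ j < orderOf x, ∀ g : G, g * x * g⁻¹ = x ^ j → j ∈ J) :
    Nat.card (normalizer (zpowers x : Set G)) ≤ J.card * Nat.card (centralizer {x} : Subgroup G) := by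
  classical
  have hex : ∀ g : normalizer (zpowers x : Set G), ∃ j < orderOf x, g.1 * x * g.1⁻¹ = x ^ j := by
    intro g
    have h1 : g.1 * x * g.1⁻¹ ∈ zpowers x := (mem_normalizer_iff.1 g.2 x).1 (mem_zpowers x)
    have h2 := (mem_zpowers_iff_mem_range_orderOf (x := x)).1 h1
    obtain ⟨j, hj, hj2⟩ := Finset.mem_image.1 h2
    exact ⟨j, Finset.mem_range.1 hj, hj2.symm⟩
  choose e he1 he2 using hex
  have h := card_le_mul_centralizer x (normalizer (zpowers x : Set G) : Set G) (β := J)
    (fun g => ⟨e g, hJ _ (he1 g) g.1 (he2 g)⟩) (fun s t hst => by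
      have h3 : e s = e t := congrArg Subtype.val hst
      rw [he2 s, he2 t, h3])
  simpa using h

/-- centralisers in a quotient: `|C(x̄)| ≤ |C(x)|` -/
theorem card_centralizer_map_le {S G : Type*} [Group S] [Finite S] [Group G] (π : S →* G)
    (hπ : Function.Surjective π) (x : S) :
    Nat.card (centralizer {π x} : Subgroup G) ≤ Nat.card (centralizer {x} : Subgroup S) := by
  classical
  have : Finite G := Finite.of_surjective π hπ
  -- the preimage `D` of the centraliser acts: `d ↦ [d, x] ∈ ker π`
  let D : Subgroup S := (centralizer {π x}).comap π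
  have hD : Nat.card π.ker * Nat.card (centralizer {π x} : Subgroup G) ≤ Nat.card D := by
    choose s hs using hπ
    let f : π.ker × (centralizer {π x} : Subgroup G) → D := fun k =>
      ⟨s k.2.1 * k.1.1, by
        rw [mem_comap, map_mul, hs, (MonoidHom.mem_ker).1 k.1.2, mul_one]
        exact k.2.2⟩
    have hf : Function.Injective f := by
      rintro ⟨k, c⟩ ⟨k', c'⟩ h
      have h1 : s c.1 * k.1 = s c'.1 * k'.1 := congrArg Subtype.val h
      have h2 : c.1 = c'.1 := by
        have h3 := congrArg π h1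
        rwa [map_mul, map_mul, hs, hs, (MonoidHom.mem_ker).1 k.2, (MonoidHom.mem_ker).1 k'.2,
          mul_one, mul_one] at h3
      rw [h2] at h1
      exact Prod.ext (Subtype.ext (mul_left_cancel h1)) (Subtype.ext h2)
    have h := Nat.card_le_card_of_injective f hf
    rwa [Nat.card_prod] at h
  have hle : Nat.card D ≤ Nat.card π.ker * Nat.card (centralizer {x} : Subgroup S) := by
    have h := card_le_mul_centralizer x (D : Set S) (β := π.ker)
      (fun d => ⟨d.1 * x * d.1⁻¹ * x⁻¹, by
        have h1 : π d.1 * π x = π x * π d.1 := mem_centralizer_singleton_iff.1 (mem_comap.1 d.2)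
        rw [MonoidHom.mem_ker, map_mul, map_mul, map_mul, map_inv, map_inv, h1]
        group⟩) (fun s t hst => by
          have h1 : s.1 * x * s.1⁻¹ * x⁻¹ = t.1 * x * t.1⁻¹ * x⁻¹ := congrArg Subtype.val hst
          exact mul_right_cancel h1)
    simpa using h
  have hpos : 0 < Nat.card π.ker := Nat.card_pos
  exact Nat.le_of_mul_le_mul_left (hD.trans hle) hpos

end Grp

section Main

open Subgroup

variable {F : Type*} [Field F] {ι : Type*} [Fintype ι] [DecidableEq ι]

/-- **P2, projective version.** `S` is a group of matrices (by `ρ`), `G` is its quotient by a group of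
scalars. Then `|N(⟨x̄⟩)| ≤ |Z| n ^ k gcd(o(x̄), p ^ a) |C(x)|`. -/
theorem card_normalizer_zpowers_le {S G : Type*} [Group S] [Finite S] [Group G] (π : S →* G)
    (hπ : Function.Surjective π) (ρ : S →* Matrix ι ι F) (hρ : Function.Injective ρ)
    (hZ : ∀ z ∈ π.ker, ∃ c : F, c ≠ 0 ∧ ρ z = c • 1)
    (p a : ℕ) [Fact p.Prime] [CharP F p] (ha : Fintype.card ι ≤ p ^ a) (x : S) :
    Nat.card (normalizer (zpowers (π x) : Set G)) ≤
      Nat.card π.ker * Fintype.card ι ^ nfac (ρ x).charpoly * Nat.gcd (orderOf (π x)) (p ^ a) *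
        Nat.card (centralizer {x} : Subgroup S) := by
  classical
  have : Finite G := Finite.of_surjective π hπ
  have hord : orderOf (ρ x) = orderOf x := orderOf_injective ρ hρ x
  -- the scalars
  choose c hc0 hc using fun z : π.ker => hZ z.1 z.2
  have : Fintype π.ker := Fintype.ofFinite _
  let Z : Finset F := Finset.univ.image c
  have hZcard : Z.card ≤ Nat.card π.ker := by
    rw [Nat.card_eq_fintype_card]
    exact Finset.card_image_le
  have hZ0 : (0 : F) ∉ Z := by
    intro h
    obtain ⟨z, _, hz⟩ := Finset.mem_image.1 h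
    exact hc0 z hz
  let J : Finset ℕ := (Finset.range (orderOf (π x))).filter
    fun j => ∃ z ∈ Z, (z • ρ x ^ j).charpoly = (ρ x).charpoly
  have hJcard := card_powers_le p a ha (ρ x) (orderOf (π x)) (orderOf_pos _)
    (by rw [hord]; exact orderOf_map_dvd π x) (by rw [hord]; exact orderOf_pos x) Z hZ0 J
    (fun j hj => Finset.mem_range.1 (Finset.mem_filter.1 hj).1)
    (fun j hj => (Finset.mem_filter.1 hj).2)
  have hN := card_normalizer_le (π x) J (fun j hj g hg => by
    refine Finset.mem_filter.2 ⟨Finset.mem_range.2 hj, ?_⟩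
    obtain ⟨s, rfl⟩ := hπ g
    -- `s x s⁻¹ = z x ^ j`
    have hk : s * x * s⁻¹ * (x ^ j)⁻¹ ∈ π.ker := by
      rw [MonoidHom.mem_ker, map_mul, map_mul, map_mul, map_inv, map_inv, map_pow, hg,
        mul_inv_cancel]
    refine ⟨c ⟨_, hk⟩, Finset.mem_image.2 ⟨_, Finset.mem_univ _, rfl⟩, ?_⟩
    have h1 := hc ⟨_, hk⟩
    have h2 : ρ (s * x * s⁻¹ * (x ^ j)⁻¹) * ρ x ^ j = ρ s * ρ x * ρ s⁻¹ := by
      rw [← map_pow, ← map_mul, ← map_mul, ← map_mul]
      congr 1
      group
    have h3 : c ⟨_, hk⟩ • ρ x ^ j = ρ s * ρ x * ρ s⁻¹ := by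
      rw [← h2]
      have h4 : ρ (s * x * s⁻¹ * (x ^ j)⁻¹) = c ⟨_, hk⟩ • 1 := h1
      rw [h4, smul_mul_assoc, one_mul]
    rw [h3]
    have h5 : ρ s * ρ s⁻¹ = 1 := by rw [← map_mul, mul_inv_cancel, map_one]
    have h6 : ρ s⁻¹ * ρ s = 1 := by rw [← map_mul, inv_mul_cancel, map_one]
    rw [Matrix.mul_assoc, Matrix.charpoly_mul_comm, Matrix.mul_assoc, h6, Matrix.mul_one])
  calc Nat.card (normalizer (zpowers (π x) : Set G))
      ≤ J.card * Nat.card (centralizer {π x} : Subgroup G) := hN
    _ ≤ (Z.card * Fintype.card ι ^ nfac (ρ x).charpoly * Nat.gcd (orderOf (π x)) (p ^ a)) *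
        Nat.card (centralizer {x} : Subgroup S) :=
        Nat.mul_le_mul hJcard (card_centralizer_map_le π hπ x)
    _ ≤ _ := by
        apply Nat.mul_le_mul_right
        apply Nat.mul_le_mul_right
        exact Nat.mul_le_mul_right _ hZcard

/-- a power of `p` between `n` and `p n` -/
theorem exists_pow_between (p n : ℕ) (hp : 1 < p) (hn : 1 ≤ n) : ∃ a, n ≤ p ^ a ∧ p ^ a ≤ p * n := by
  refine ⟨Nat.clog p n, Nat.le_pow_clog hp n, ?_⟩
  rcases Nat.eq_or_lt_of_le hn with h1 | h1
  · rw [← h1, Nat.clog_one_right, pow_zero, mul_one]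
    exact hp.le
  · have h2 := (Nat.pow_pred_clog_lt_self hp h1).le
    have h3 : 0 < Nat.clog p n := Nat.clog_pos hp h1
    obtain ⟨b, hb⟩ : ∃ b, Nat.clog p n = b + 1 := ⟨Nat.clog p n - 1, by omega⟩
    rw [hb] at h2 ⊢
    rw [pow_succ']
    exact Nat.mul_le_mul_left _ h2

/-- **P2, projective version, with `p n` in place of the power of `p`.** -/
theorem card_normalizer_zpowers_le' {S G : Type*} [Group S] [Finite S] [Group G] (π : S →* G)
    (hπ : Function.Surjective π) (ρ : S →* Matrix ι ι F) (hρ : Function.Injective ρ)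
    (hZ : ∀ z ∈ π.ker, ∃ c : F, c ≠ 0 ∧ ρ z = c • 1)
    (p : ℕ) [hp : Fact p.Prime] [CharP F p] [Nonempty ι] (x : S) :
    Nat.card (normalizer (zpowers (π x) : Set G)) ≤
      Nat.card π.ker * Fintype.card ι ^ nfac (ρ x).charpoly * (p * Fintype.card ι) *
        Nat.card (centralizer {x} : Subgroup S) := by
  obtain ⟨a, ha1, ha2⟩ := exists_pow_between p (Fintype.card ι) hp.out.one_lt Fintype.card_pos
  refine (card_normalizer_zpowers_le π hπ ρ hρ hZ p a ha1 x).trans ?_
  refine Nat.mul_le_mul_right _ (Nat.mul_le_mul_left _ ?_)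
  exact (Nat.gcd_le_right _ (pow_pos hp.out.pos a)).trans ha2

/-- **P2, projective version, order prime to `p`.** -/
theorem card_normalizer_zpowers_le_of_coprime {S G : Type*} [Group S] [Finite S] [Group G]
    (π : S →* G) (hπ : Function.Surjective π) (ρ : S →* Matrix ι ι F) (hρ : Function.Injective ρ)
    (hZ : ∀ z ∈ π.ker, ∃ c : F, c ≠ 0 ∧ ρ z = c • 1)
    (p : ℕ) [hp : Fact p.Prime] [CharP F p] [Nonempty ι] (x : S) (hx : ¬ p ∣ orderOf (π x)) :
    Nat.card (normalizer (zpowers (π x) : Set G)) ≤
      Nat.card π.ker * Fintype.card ι ^ nfac (ρ x).charpoly *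
        Nat.card (centralizer {x} : Subgroup S) := by
  obtain ⟨a, ha1, ha2⟩ := exists_pow_between p (Fintype.card ι) hp.out.one_lt Fintype.card_pos
  have h := card_normalizer_zpowers_le π hπ ρ hρ hZ p a ha1 x
  have h1 : Nat.gcd (orderOf (π x)) (p ^ a) = 1 :=
    Nat.Coprime.pow_right a ((hp.out.coprime_iff_not_dvd.2 hx).symm)
  rwa [h1, mul_one] at h

/-- **P2, linear version.** `|N(⟨x⟩)| ≤ n ^ k (p n) |C(x)|` in a finite group `S` of matrices. -/
theorem card_normalizer_zpowers_le_linear {S : Type*} [Group S] [Finite S]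
    (ρ : S →* Matrix ι ι F) (hρ : Function.Injective ρ)
    (p : ℕ) [hp : Fact p.Prime] [CharP F p] [Nonempty ι] (x : S) :
    Nat.card (normalizer (zpowers x : Set S)) ≤
      Fintype.card ι ^ nfac (ρ x).charpoly * (p * Fintype.card ι) *
        Nat.card (centralizer {x} : Subgroup S) := by
  have h := card_normalizer_zpowers_le' (MonoidHom.id S) Function.surjective_id ρ hρ
    (fun z hz => ⟨1, one_ne_zero, by
      have h1 : z = 1 := hz
      rw [h1, map_one, one_smul]⟩) p x
  have h2 : Nat.card (MonoidHom.id S).ker = 1 := by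
    rw [(MonoidHom.ker_eq_bot_iff _).2 Function.injective_id]
    exact Subgroup.card_bot
  rw [h2, one_mul] at h
  exact h

/-- the same for an element of order prime to `p` -/
theorem card_normalizer_zpowers_le_linear_of_coprime {S : Type*} [Group S] [Finite S]
    (ρ : S →* Matrix ι ι F) (hρ : Function.Injective ρ)
    (p : ℕ) [hp : Fact p.Prime] [CharP F p] [Nonempty ι] (x : S) (hx : ¬ p ∣ orderOf x) :
    Nat.card (normalizer (zpowers x : Set S)) ≤
      Fintype.card ι ^ nfac (ρ x).charpoly * Nat.card (centralizer {x} : Subgroup S) := by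
  have h := card_normalizer_zpowers_le_of_coprime (MonoidHom.id S) Function.surjective_id ρ hρ
    (fun z hz => ⟨1, one_ne_zero, by
      have h1 : z = 1 := hz
      rw [h1, map_one, one_smul]⟩) p x hx
  have h2 : Nat.card (MonoidHom.id S).ker = 1 := by
    rw [(MonoidHom.ker_eq_bot_iff _).2 Function.injective_id]
    exact Subgroup.card_bot
  rw [h2, one_mul] at h
  exact h

end Main

end Cfsg.Agent.H886.RG
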