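import Mathlib

/-!
# Numbers for random generation (S5715, P1)

`totient_ge`: `m ≤ (log₂ m + 1) φ(m)`.
-/

namespace Cfsg.Agent.H886.RG

open Finset

/-- `∏ p ≤ (|S| + 1) ∏ (p - 1)` for a finite set of numbers `≥ 2`. -/
theorem prod_le_card_succ_mul (S : Finset ℕ) (hS : ∀ p ∈ S, 2 ≤ p) :
    ∏ p ∈ S, p ≤ (S.card + 1) * ∏ p ∈ S, (p - 1) := by
  induction S using Finset.induction_on_max with
  | empty => simp
  | insert a T hlt ih =>
    have haT : a ∉ T := fun h => lt_irrefl _ (hlt a h)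
    have h2 : 2 ≤ a := hS a (mem_insert_self _ _)
    have hT : T ⊆ Finset.Ico 2 a := fun x hx =>
      Finset.mem_Ico.2 ⟨hS x (mem_insert_of_mem hx), hlt x hx⟩
    have hc : T.card + 2 ≤ a := by
      have := card_le_card hT
      rw [Nat.card_Ico] at this
      omega
    have ih' := ih fun p hp => hS p (mem_insert_of_mem hp)
    rw [prod_insert haT, prod_insert haT, card_insert_of_notMem haT]
    obtain ⟨b, rfl⟩ : ∃ b, a = b + 1 := ⟨a - 1, by omega⟩
    rw [Nat.add_sub_cancel]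
    calc (b + 1) * ∏ p ∈ T, p ≤ (b + 1) * ((T.card + 1) * ∏ p ∈ T, (p - 1)) :=
          Nat.mul_le_mul_left _ ih'
      _ = ((b + 1) * (T.card + 1)) * ∏ p ∈ T, (p - 1) := by ring
      _ ≤ ((T.card + 1 + 1) * b) * ∏ p ∈ T, (p - 1) := by
          apply Nat.mul_le_mul_right
          nlinarith
      _ = _ := by ring

/-- `2 ^ ω(m) ≤ m`. -/
theorem two_pow_card_primeFactors_le (m : ℕ) (hm : 0 < m) :
    2 ^ m.primeFactors.card ≤ m := by
  calc 2 ^ m.primeFactors.card ≤ ∏ p ∈ m.primeFactors, p :=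
        Finset.pow_card_le_prod _ _ _ fun p hp => (Nat.prime_of_mem_primeFactors hp).two_le
    _ ≤ m := Nat.le_of_dvd hm (Nat.prod_primeFactors_dvd m)

/-- `ω(m) ≤ log₂ m`. -/
theorem card_primeFactors_le (m : ℕ) (hm : 0 < m) :
    m.primeFactors.card ≤ Nat.log 2 m :=
  Nat.le_log_of_pow_le (by norm_num) (two_pow_card_primeFactors_le m hm)

/-- `m ≤ (ω(m) + 1) φ(m)`. -/
theorem le_card_primeFactors_succ_mul_totient (m : ℕ) :
    m ≤ (m.primeFactors.card + 1) * Nat.totient m := by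
  have h := Nat.totient_mul_prod_primeFactors m
  have h1 := prod_le_card_succ_mul m.primeFactors
    fun p hp => (Nat.prime_of_mem_primeFactors hp).two_le
  have h0 : 0 < ∏ p ∈ m.primeFactors, (p - 1) := Finset.prod_pos fun p hp => by
    have := (Nat.prime_of_mem_primeFactors hp).two_le
    omega
  refine Nat.le_of_mul_le_mul_right ?_ h0
  calc m * ∏ p ∈ m.primeFactors, (p - 1) = Nat.totient m * ∏ p ∈ m.primeFactors, p := h.symm
    _ ≤ Nat.totient m * ((m.primeFactors.card + 1) * ∏ p ∈ m.primeFactors, (p - 1)) :=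
        Nat.mul_le_mul_left _ h1
    _ = _ := by ring

/-- `m ≤ (log₂ m + 1) φ(m)`, in the natural numbers. -/
theorem totient_ge_nat (m : ℕ) (hm : 0 < m) :
    m ≤ (Nat.log 2 m + 1) * Nat.totient m :=
  (le_card_primeFactors_succ_mul_totient m).trans
    (Nat.mul_le_mul_right _ (Nat.succ_le_succ (card_primeFactors_le m hm)))

/-- **P1.** `m ≤ (log₂ m + 1) φ(m)`. -/
theorem totient_ge (m : ℕ) (hm : 0 < m) :
    (m : ℝ) ≤ (Nat.log 2 m + 1) * Nat.totient m := by
  have h : ((m : ℕ) : ℝ) ≤ (((Nat.log 2 m + 1) * Nat.totient m : ℕ) : ℝ) :=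
    Nat.cast_le.2 (totient_ge_nat m hm)
  push_cast at h
  exact h

end Cfsg.Agent.H886.RG
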